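import Cfsg.Agent.H904.EPV.Engine

/-!
# S3499: the generic engine with `n ≥ L + 3` (helper904)

`eThree (b : Big A Γ S P) L : |A| ≤ 2 ^ L → L + 3 ≤ n → False`.
-/

set_option autoImplicit false

namespace Cfsg.Agent.H904.EPV

open Subgroup Cfsg.Agent.H284 Cfsg.Agent.H419.EP Cfsg.Agent.H991.EP

theorem two_pow_Om_le {m : ℕ} (hm : m ≠ 0) : 2 ^ Om m ≤ m := by
  have h1 : ∀ l : List ℕ, (∀ p ∈ l, 2 ≤ p) → 2 ^ l.length ≤ l.prod := by
    intro l
    induction l with
    | nil => intro _; simp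
    | cons a l ih =>
      intro hl
      rw [List.length_cons, List.prod_cons, pow_succ, mul_comm]
      exact Nat.mul_le_mul (hl a List.mem_cons_self) (ih fun p hp => hl p (List.mem_cons_of_mem _ hp))
  have h2 := h1 m.primeFactorsList fun p hp => (Nat.prime_of_mem_primeFactorsList hp).two_le
  rwa [Nat.prod_primeFactorsList hm] at h2

/-- `Ω(m) < L` for `0 < m ≤ 2 ^ L`, `m` not a power of `2`. -/
theorem Om_lt_of_le {m L : ℕ} (hm : m ≠ 0) (h : m ≤ 2 ^ L) (h2 : ∀ k, m ≠ 2 ^ k) : Om m < L := by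
  by_contra hn
  push Not at hn
  apply h2 L
  exact le_antisymm h ((Nat.pow_le_pow_right (by norm_num) hn).trans (two_pow_Om_le hm))

theorem sb_two_pred_le {L : ℕ} (hL : 1 ≤ L) : 2 * sb (2 ^ L) (L - 1) ≤ 2 ^ (L * (L + 1) / 2) := by
  obtain ⟨k, rfl⟩ : ∃ k, L = k + 1 := ⟨L - 1, by omega⟩
  rw [Nat.add_sub_cancel]
  have h1 := sb_two (L := k + 1) (k := k) (by omega)
  have hdiv : (k + 1) * (k + 1 + 1) / 2 * 2 = (k + 1) * (k + 1 + 1) :=
    Nat.div_mul_cancel (Nat.even_mul_succ_self (k + 1)).two_dvd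
  apply (Nat.pow_le_pow_iff_left (n := 2) (by norm_num)).1
  rw [← pow_mul, hdiv, mul_pow]
  have h2 : 2 ^ 2 * 2 ^ (2 * (k * (k + 1))) = 2 ^ ((k + 1) * (k + 1 + 1)) * 2 ^ (k * (k - 1)) := by
    rw [← pow_add, ← pow_add]
    congr 1
    rcases k with _ | k
    · rfl
    · rw [Nat.add_sub_cancel]; ring
  have h3 : 2 ^ 2 * sb (2 ^ (k + 1)) k ^ 2 * 2 ^ (k * (k - 1)) ≤ 2 ^ ((k + 1) * (k + 1 + 1)) * 2 ^ (k * (k - 1)) := by
    rw [← h2, mul_assoc]
    exact Nat.mul_le_mul_left _ h1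
  exact Nat.le_of_mul_le_mul_right h3 (by positivity)

section

variable {Q : Type*} [Group Q] [Finite Q] {A : Subgroup Q} {Γ : Subgroup (MulAut Q)}

/-- **The bound for the order**, `|A|` not a power of `2` -/
theorem card_lt_pow (hs : IsSimpleGroup Q) (h : EPT A Γ) {L : ℕ} (hA : Nat.card A ≤ 2 ^ L)
    (h2 : ∀ k, Nat.card A ≠ 2 ^ k) : Nat.card Q < 2 ^ (L * (L + 5) / 2) := by
  have hL : 1 ≤ L := by
    rcases Nat.eq_zero_or_pos L with rfl | h
    · exfalso
      apply h2 0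
      exact le_antisymm hA (by rw [pow_zero]; exact Nat.card_pos)
    · exact h
  have hO := Om_lt_of_le Nat.card_pos.ne' hA h2
  have h1 := card_le_of_ncard hs h hA (ncard_le_sb h hA (k := L - 1) (by omega))
  refine lt_of_le_of_lt h1 ?_
  have h3 := sb_two_pred_le hL
  have h4 : L * (L + 5) / 2 = L * (L + 1) / 2 + 2 * L := by
    have : L * (L + 5) = L * (L + 1) + 2 * (2 * L) := by ring
    rw [this, Nat.add_mul_div_left _ _ (by norm_num)]
  rw [h4, pow_add, two_mul, pow_add]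
  set x := 2 ^ L with hx
  set y := 2 ^ (L * (L + 1) / 2) with hy
  set s := sb (2 ^ L) (L - 1) with hsb
  have hx2 : 2 ≤ x := by
    rw [hx]
    calc 2 = 2 ^ 1 := by norm_num
      _ ≤ 2 ^ L := Nat.pow_le_pow_right (by norm_num) hL
  have hxy : x ≤ y := by
    rw [hx, hy]
    apply Nat.pow_le_pow_right (by norm_num)
    rw [Nat.le_div_iff_mul_le (by norm_num)]
    exact Nat.mul_le_mul_left _ (by omega)
  -- `x * (1 + s * x) < y * (x * x)`
  have h5 : 2 * (s * x) ≤ y * x := by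
    rw [← mul_assoc]
    exact Nat.mul_le_mul_right _ h3
  have h6 : 2 * 2 ≤ y * x := Nat.mul_le_mul (hx2.trans hxy) hx2
  have h7 : 1 + s * x < y * x := by omega
  calc x * (1 + s * x) < x * (y * x) := Nat.mul_lt_mul_of_pos_left h7 (by omega)
    _ = y * (x * x) := by ring

end

section

variable {Q : Type} [Group Q] [Finite Q] {A : Subgroup Q} {Γ : Subgroup (MulAut Q)} {ι : Type} [Fintype ι]
    [DecidableEq ι] {F : Type} [Field F] [Fintype F] {S P : Subgroup (GL ι F)}

theorem card_ne_two_pow (b : Big A Γ S P) : ∀ k, Nat.card A ≠ 2 ^ k := by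
  intro k hk
  haveI : Finite (socle P) := by
    haveI : Finite (GL ι F) := inferInstance
    haveI : Finite P := inferInstance
    exact Quotient.finite _
  haveI := b.core.simple
  haveI : Fact (Nat.Prime 2) := ⟨Nat.prime_two⟩
  have hd := b.hasSoc.card_dvd
  rw [hk] at hd
  have hp : IsPGroup 2 (socle P) := by
    obtain ⟨j, -, hj⟩ := (Nat.dvd_prime_pow Nat.prime_two).1 hd
    exact IsPGroup.of_card hj
  haveI := hp.center_nontrivial
  rcases (inferInstance : (Subgroup.center (socle P)).Normal).eq_bot_or_eq_top with h1 | h1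
  · exact absurd h1 (Subgroup.nontrivial_iff_ne_bot _ |>.1 inferInstance)
  · apply b.core.nonabelian
    exact ⟨⟨fun x y => by
      have h2 : y ∈ Subgroup.center (socle P) := by rw [h1]; exact mem_top _
      exact Subgroup.mem_center_iff.1 h2 x⟩⟩

/-- **The generic engine E3** -/
theorem eThree (b : Big A Γ S P) (L : ℕ) (hA : Nat.card A ≤ 2 ^ L) (hn : L + 3 ≤ Fintype.card ι) : False := by
  have h1 := b.ord_two hn
  have h2 := card_lt_pow b.simple b.ept hA (card_ne_two_pow b)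
  have h5 : (L + 3) * (L + 3 - 1) / 2 = L * (L + 5) / 2 + 3 := by
    have : (L + 3) * (L + 3 - 1) = L * (L + 5) + 2 * 3 := by
      have : L + 3 - 1 = L + 2 := by omega
      rw [this]; ring
    rw [this, Nat.add_mul_div_left _ _ (by norm_num)]
  rw [h5, pow_add] at h1
  omega

/-- `n < L + 3` if `|A| ≤ 2 ^ L`. -/
theorem dim_lt' (b : Big A Γ S P) {L : ℕ} (hA : Nat.card A ≤ 2 ^ L) : Fintype.card ι < L + 3 := by
  by_contra hn
  push Not at hn
  exact eThree b L hA hn

end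

end Cfsg.Agent.H904.EPV
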